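import Groth.Prelude.Def_W4c3biextchowCx
import Mathlib.Algebra.Homology.ShortComplex.ModuleCat
import Mathlib.Algebra.Homology.ShortComplex.Exact
import Mathlib.Algebra.Homology.ShortComplex.HomologicalComplex
import Mathlib.Algebra.Category.ModuleCat.Abelian
import Mathlib.CategoryTheory.EssentialImage
import Mathlib.Tactic.Abel

/-!
# The groupoid functor of a chain map in terms of homology
-/

universe v u

open CategoryTheory Limits

namespace Groth.Agent.CxGrpd26

variable {R : Type u} [Ring R] {ι : Type*} {c : ComplexShape ι}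
  {C D : HomologicalComplex (ModuleCat.{v} R) c}

theorem exists_cycle (C : HomologicalComplex (ModuleCat.{v} R) c) {i j : ι} (hj : c.next i = j)
    (x : C.X i) (hx : (C.d i j).hom x = 0) : ∃ z : C.cycles i, (C.iCycles i).hom z = x := by
  subst hj
  refine ⟨(C.sc i).moduleCatCyclesIso.inv.hom ⟨x, hx⟩, ?_⟩
  exact (C.sc i).moduleCatCyclesIso_inv_iCycles_apply ⟨x, hx⟩

theorem d_iCycles (C : HomologicalComplex (ModuleCat.{v} R) c) (i j : ι) (z : C.cycles i) :
    (C.d i j).hom ((C.iCycles i).hom z) = 0 := by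
  rw [← LinearMap.comp_apply, ← ModuleCat.hom_comp, HomologicalComplex.iCycles_d]
  simp

theorem π_surjective (C : HomologicalComplex (ModuleCat.{v} R) c) (i : ι) :
    Function.Surjective (C.homologyπ i).hom :=
  (ModuleCat.epi_iff_surjective _).mp inferInstance

theorem iCycles_injective (C : HomologicalComplex (ModuleCat.{v} R) c) (i : ι) :
    Function.Injective (C.iCycles i).hom :=
  (ModuleCat.mono_iff_injective _).mp inferInstance

theorem π_eq_zero_iff (C : HomologicalComplex (ModuleCat.{v} R) c) {k i : ι} (hk : c.prev i = k)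
    (z : C.cycles i) : (C.homologyπ i).hom z = 0 ↔ ∃ w, (C.d k i).hom w = (C.iCycles i).hom z := by
  have hex : (ShortComplex.mk _ _ (C.toCycles_comp_homologyπ k i)).Exact :=
    ShortComplex.exact_of_g_is_cokernel _ (C.homologyIsCokernel k i hk)
  rw [ShortComplex.moduleCat_exact_iff] at hex
  have e : ∀ w, (C.iCycles i).hom ((C.toCycles k i).hom w) = (C.d k i).hom w := fun w => by
    rw [← LinearMap.comp_apply, ← ModuleCat.hom_comp, HomologicalComplex.toCycles_i]
  constructor
  · intro h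
    obtain ⟨w, hw⟩ := hex z h
    refine ⟨w, ?_⟩
    rw [← e]
    exact congrArg _ hw
  · rintro ⟨w, hw⟩
    rw [← iCycles_injective C i (show (C.iCycles i).hom ((C.toCycles k i).hom w) =
      (C.iCycles i).hom z by rw [e, hw]), ← LinearMap.comp_apply, ← ModuleCat.hom_comp,
      HomologicalComplex.toCycles_comp_homologyπ]
    simp

theorem iCycles_map (f : C ⟶ D) (i : ι) (z : C.cycles i) :
    (D.iCycles i).hom ((HomologicalComplex.cyclesMap f i).hom z) =
      (f.f i).hom ((C.iCycles i).hom z) := by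
  rw [← LinearMap.comp_apply, ← ModuleCat.hom_comp, HomologicalComplex.cyclesMap_i]
  simp

theorem homologyMap_π (f : C ⟶ D) (i : ι) (z : C.cycles i) :
    (HomologicalComplex.homologyMap f i).hom ((C.homologyπ i).hom z) =
      (D.homologyπ i).hom ((HomologicalComplex.cyclesMap f i).hom z) := by
  rw [← LinearMap.comp_apply, ← ModuleCat.hom_comp, HomologicalComplex.homologyπ_naturality]
  simp

theorem mono_homologyMap_iff (f : C ⟶ D) {k i j : ι} (hk : c.prev i = k) (hj : c.next i = j) :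
    Mono (HomologicalComplex.homologyMap f i) ↔
      ∀ x, (C.d i j).hom x = 0 → (∃ w, (D.d k i).hom w = (f.f i).hom x) →
        ∃ w, (C.d k i).hom w = x := by
  rw [ModuleCat.mono_iff_injective]
  constructor
  · intro h x hx hw
    obtain ⟨z, rfl⟩ := exists_cycle C hj x hx
    refine (π_eq_zero_iff C hk z).mp (h ?_)
    change (HomologicalComplex.homologyMap f i).hom _ = (HomologicalComplex.homologyMap f i).hom 0
    rw [map_zero, homologyMap_π, π_eq_zero_iff D hk, iCycles_map]
    exact hw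
  · intro h
    refine (injective_iff_map_eq_zero (HomologicalComplex.homologyMap f i).hom).mpr fun a ha => ?_
    obtain ⟨z, rfl⟩ := π_surjective C i a
    rw [homologyMap_π, π_eq_zero_iff D hk, iCycles_map] at ha
    rw [π_eq_zero_iff C hk]
    exact h _ (d_iCycles C i j z) ha

theorem epi_homologyMap_iff (f : C ⟶ D) {k i j : ι} (hk : c.prev i = k) (hj : c.next i = j) :
    Epi (HomologicalComplex.homologyMap f i) ↔
      ∀ y, (D.d i j).hom y = 0 →
        ∃ x, (C.d i j).hom x = 0 ∧ ∃ w, (D.d k i).hom w = (f.f i).hom x - y := by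
  rw [ModuleCat.epi_iff_surjective]
  constructor
  · intro h y hy
    obtain ⟨z, rfl⟩ := exists_cycle D hj y hy
    obtain ⟨a, ha⟩ := h ((D.homologyπ i).hom z)
    obtain ⟨z', rfl⟩ := π_surjective C i a
    refine ⟨(C.iCycles i).hom z', d_iCycles C i j z', ?_⟩
    rw [← iCycles_map, ← map_sub, ← π_eq_zero_iff D hk, map_sub, ← homologyMap_π, sub_eq_zero]
    exact ha
  · intro h b
    obtain ⟨z, rfl⟩ := π_surjective D i b
    obtain ⟨x, hx, hw⟩ := h _ (d_iCycles D i j z)
    obtain ⟨z', rfl⟩ := exists_cycle C hj x hx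
    refine ⟨(C.homologyπ i).hom z', ?_⟩
    change (HomologicalComplex.homologyMap f i).hom _ = _
    rw [← iCycles_map, ← map_sub, ← π_eq_zero_iff D hk, map_sub, sub_eq_zero] at hw
    rw [homologyMap_π, hw]

open W4c3biextchow

variable {C D : ChainComplex (ModuleCat.{v} R) ℕ} (f : C ⟶ D)

theorem faithful_iff :
    (cxFunctor f).Faithful ↔ Mono (HomologicalComplex.homologyMap f 1) := by
  rw [mono_homologyMap_iff f (k := 2) (i := 1) (j := 0) (ChainComplex.prev ℕ 1)
    (ChainComplex.next_nat_succ 0)]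
  constructor
  · intro h x hx hw
    obtain ⟨w, hw⟩ := hw
    let a : Obj C := ⟨0⟩
    let φ : a ⟶ a := ⟨Submodule.Quotient.mk x, by simp [hx]⟩
    have e : φ = 𝟙 a := (cxFunctor f).map_injective (Hom.ext (by
      rw [cxFunctor_map_cl, cxFunctor_map_cl, id_cl, map_zero]
      show q1Map f (Submodule.Quotient.mk x) = 0
      rw [q1Map_mk, Submodule.Quotient.mk_eq_zero]
      exact ⟨w, hw⟩))
    have e2 : Submodule.Quotient.mk x = (0 : Q1 C) := congrArg Hom.cl e
    rwa [Submodule.Quotient.mk_eq_zero] at e2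
  · intro h
    refine ⟨fun {a b} φ ψ e => Hom.ext ?_⟩
    have e' : q1Map f φ.cl = q1Map f ψ.cl := congrArg Hom.cl e
    rw [← sub_eq_zero]
    obtain ⟨x, hx⟩ := Submodule.Quotient.mk_surjective _ (φ.cl - ψ.cl)
    rw [← hx, Submodule.Quotient.mk_eq_zero]
    refine h x ?_ ?_
    · rw [← delta_mk, hx, map_sub, φ.delta_cl, ψ.delta_cl, sub_self]
    · change (f.f 1).hom x ∈ LinearMap.range (D.d 2 1).hom
      rw [← Submodule.Quotient.mk_eq_zero, ← q1Map_mk, hx, map_sub, e', sub_self]

theorem d_f (x : C.X 1) : (D.d 1 0).hom ((f.f 1).hom x) = (f.f 0).hom ((C.d 1 0).hom x) :=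
  ConcreteCategory.congr_hom (f.comm 1 0) x

theorem essSurj_iff : (cxFunctor f).EssSurj ↔ Epi (HomologicalComplex.homologyMap f 0) := by
  rw [epi_homologyMap_iff f (k := 1) (i := 0) (j := 0) (ChainComplex.prev ℕ 0)
    ChainComplex.next_nat_zero]
  have d0 : ∀ (E : ChainComplex (ModuleCat.{v} R) ℕ) (y : E.X 0), (E.d 0 0).hom y = 0 := fun E y => by
    rw [E.shape 0 0 (by simp)]; rfl
  constructor
  · intro h y _
    obtain ⟨a, ⟨e⟩⟩ := h.mem_essImage ⟨y⟩
    obtain ⟨w, hw⟩ := Submodule.Quotient.mk_surjective _ e.inv.cl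
    refine ⟨a.pt, d0 C _, w, ?_⟩
    rw [← delta_mk, hw]
    exact e.inv.delta_cl
  · intro h
    refine ⟨fun b => ?_⟩
    obtain ⟨x, -, w, hw⟩ := h b.pt (d0 D _)
    refine ⟨⟨x⟩, ⟨?_⟩⟩
    exact
      { hom := ⟨Submodule.Quotient.mk (-w), by simp [hw]⟩
        inv := ⟨Submodule.Quotient.mk w, by simp [hw]⟩
        hom_inv_id := Hom.ext (by
          show Submodule.Quotient.mk (-w) + Submodule.Quotient.mk w = (0 : Q1 D)
          simp)
        inv_hom_id := Hom.ext (by
          show Submodule.Quotient.mk w + Submodule.Quotient.mk (-w) = (0 : Q1 D)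
          simp) }

theorem full_iff : (cxFunctor f).Full ↔
    Epi (HomologicalComplex.homologyMap f 1) ∧ Mono (HomologicalComplex.homologyMap f 0) := by
  rw [epi_homologyMap_iff f (k := 2) (i := 1) (j := 0) (ChainComplex.prev ℕ 1)
    (ChainComplex.next_nat_succ 0), mono_homologyMap_iff f (k := 1) (i := 0) (j := 0)
    (ChainComplex.prev ℕ 0) ChainComplex.next_nat_zero]
  constructor
  · intro h
    refine ⟨fun y hy => ?_, fun x _ hw => ?_⟩
    · let a : Obj C := ⟨0⟩
      obtain ⟨φ, hφ⟩ := (cxFunctor f).map_surjective (X := a) (Y := a)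
        ⟨Submodule.Quotient.mk y, by simp [hy]⟩
      obtain ⟨x, hx⟩ := Submodule.Quotient.mk_surjective _ φ.cl
      have e : q1Map f φ.cl = Submodule.Quotient.mk y := congrArg Hom.cl hφ
      refine ⟨x, by rw [← delta_mk, hx, φ.delta_cl, sub_self], ?_⟩
      change (f.f 1).hom x - y ∈ LinearMap.range (D.d 2 1).hom
      rw [← Submodule.Quotient.eq, ← q1Map_mk, hx]
      exact e
    · obtain ⟨w, hw⟩ := hw
      obtain ⟨φ, -⟩ := (cxFunctor f).map_surjective (X := ⟨0⟩) (Y := ⟨x⟩)
        ⟨Submodule.Quotient.mk w, by simp [hw]⟩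
      obtain ⟨v, hv⟩ := Submodule.Quotient.mk_surjective _ φ.cl
      exact ⟨v, by rw [← delta_mk, hv, φ.delta_cl, sub_zero]⟩
  · rintro ⟨h1, h0⟩
    refine ⟨fun {a b} ψ => ?_⟩
    obtain ⟨y, hy⟩ := Submodule.Quotient.mk_surjective _ ψ.cl
    have hy0 : (D.d 1 0).hom y = (f.f 0).hom (b.pt - a.pt) := by
      rw [← delta_mk, hy, ψ.delta_cl, map_sub]
      rfl
    obtain ⟨v, hv⟩ := h0 (b.pt - a.pt) (by rw [C.shape 0 0 (by simp)]; rfl) ⟨y, hy0⟩
    obtain ⟨x, hx, w, hw⟩ := h1 (y - (f.f 1).hom v) (by rw [map_sub, d_f, hv, hy0, sub_self])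
    refine ⟨⟨Submodule.Quotient.mk (x + v), by rw [delta_mk, map_add, hx, hv, zero_add]⟩,
      Hom.ext ?_⟩
    rw [cxFunctor_map_cl, ← hy]
    show q1Map f (Submodule.Quotient.mk (x + v)) = _
    rw [q1Map_mk, Submodule.Quotient.eq]
    refine ⟨w, ?_⟩
    rw [hw, map_add]
    abel

end Groth.Agent.CxGrpd26
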